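import Mathlib
import Groth.Agent.IdealDepth.CM
import Groth.Agent.CMLocal.SOP
import Groth.Agent.RegularLocal.Basic
import Groth.Agent.Flat.Criteria

/-! Flatness over regular local rings and the Cohen-Macaulay property. -/

set_option autoImplicit false
set_option backward.isDefEq.respectTransparency false
universe u
open IsLocalRing RingTheory.Sequence TensorProduct

namespace Groth.Agent.CMFlat.Algebra

variable {R S : Type u} [CommRing R] [IsRegularLocalRing R] [CommRing S] [IsLocalRing S] [IsNoetherianRing S]
  [Algebra R S]

theorem isRegular_generators (R : Type u) [CommRing R] [IsRegularLocalRing R] :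
    ∃ l : List R, Ideal.ofList l = maximalIdeal R ∧ IsRegular R l ∧ ringKrullDim R = l.length := by
  obtain ⟨l, hl, hgen⟩ := RegularLocal.Basic.exists_list_of_fg (maximalIdeal R).fg_of_isNoetherianRing
  refine ⟨l, hgen, RegularLocal.Basic.isRegular_of_generators l hgen (by rw [hl]), ?_⟩
  rw [hl, ← ((isRegularLocalRing_iff R).mp inferInstance)]

/-- The dimension drops along a local map with closed fibre of dimension zero. -/
theorem ringKrullDim_le (hprim : maximalIdeal S ≤ ((maximalIdeal R).map (algebraMap R S)).radical)
    [IsLocalHom (algebraMap R S)] : ringKrullDim S ≤ ringKrullDim R := by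
  classical
  obtain ⟨l, hgen, -, hd⟩ := isRegular_generators R
  rw [hd]
  obtain ⟨n, hn⟩ := RegularLocal.Basic.exists_natCast_eq_ringKrullDim (R := S)
  have hle : Ideal.span (((l.map (algebraMap R S)).toFinset : Finset S) : Set S) ≤ maximalIdeal S := by
    rw [Ideal.span_le]
    intro x hx
    simp only [List.coe_toFinset, List.mem_map, Set.mem_setOf_eq] at hx
    obtain ⟨a, ha, rfl⟩ := hx
    exact map_nonunit _ a (hgen ▸ Ideal.subset_span ha)
  have heq : (maximalIdeal R).map (algebraMap R S) = Ideal.span (((l.map (algebraMap R S)).toFinset : Finset S) : Set S) := by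
    rw [← hgen, Ideal.map_ofList, Ideal.ofList, List.coe_toFinset]
  rw [← IsLocalRing.maximalIdeal_height_eq_ringKrullDim]
  have hmin : maximalIdeal S ∈ (Ideal.span (((l.map (algebraMap R S)).toFinset : Finset S) : Set S)).minimalPrimes := by
    refine ⟨⟨inferInstance, hle⟩, fun P hP _ => ?_⟩
    rw [heq] at hprim
    exact hprim.trans (hP.1.radical_le_iff.mpr hP.2)
  refine WithBot.coe_le_coe.mpr ((Ideal.height_le_card_of_mem_minimalPrimes_span (Finset.finite_toSet _) hmin).trans ?_)
  rw [Set.ncard_coe_finset]
  exact Nat.cast_le.mpr ((List.toFinset_card_le _).trans (by rw [List.length_map]))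

/-- Flat over a regular local ring with closed fibre of dimension zero: Cohen-Macaulay. -/
theorem cm_of_flat [Module.Flat R S] [IsLocalHom (algebraMap R S)]
    (hprim : maximalIdeal S ≤ ((maximalIdeal R).map (algebraMap R S)).radical) :
    LocCoh.IsCohenMacaulayLocalRing S := by
  obtain ⟨l, hgen, hreg, hd⟩ := isRegular_generators R
  have hreg' := hreg.toIsWeaklyRegular.of_flat (S := S)
  have h1 : ((l.length : ℕ) : ℕ∞) ≤ LocCoh.depth S S := by
    refine le_trans ?_ (IdealDepth.len_le (rs := l.map (algebraMap R S)) ⟨hreg', fun r hr => ?_⟩)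
    · rw [List.length_map]
    · obtain ⟨a, ha, rfl⟩ := List.mem_map.mp hr
      exact map_nonunit _ a (hgen ▸ Ideal.subset_span ha)
  have h2 := IdealDepth.depth_le_supportDim (R := S) (M := S)
  refine ⟨le_antisymm ?_ h2⟩
  rw [Module.supportDim_self_eq_ringKrullDim]
  refine (ringKrullDim_le hprim).trans (hd.trans_le ?_)
  exact WithBot.coe_le_coe.mpr h1

theorem mu_injective {M : Type u} [AddCommGroup M] [Module R M] : ∀ (l : List R) (I : Ideal R),
    Function.Injective (Flat.Criteria.mu I M) → IsWeaklyRegular (M ⧸ (I • (⊤ : Submodule R M))) l →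
      Function.Injective (Flat.Criteria.mu (I ⊔ Ideal.ofList l) M)
  | [], I, h, _ => by
    rw [Ideal.ofList_nil, sup_bot_eq]; exact h
  | a :: l, I, h, hreg => by
    rw [isWeaklyRegular_cons_iff] at hreg
    rw [Ideal.ofList_cons, ← sup_assoc]
    let J := I ⊔ Ideal.span {a}
    refine mu_injective l J ?_ ?_
    · let inc : I →ₗ[R] J := Submodule.inclusion le_sup_left
      have haJ : a ∈ J := Ideal.mem_sup_right (Ideal.mem_span_singleton_self a)
      have hcomp : ∀ y, Flat.Criteria.mu J M (inc.rTensor M y) = Flat.Criteria.mu I M y := fun y => by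
        induction y using TensorProduct.induction_on with
        | zero => simp
        | tmul r p => rw [LinearMap.rTensor_tmul, Flat.Criteria.mu_tmul, Flat.Criteria.mu_tmul]; rfl
        | add p q hp hq => simp only [map_add, hp, hq]
      have hdec : ∀ z : J ⊗[R] M, ∃ y m, z = inc.rTensor M y + (⟨a, haJ⟩ : J) ⊗ₜ m := fun z => by
        induction z using TensorProduct.induction_on with
        | zero => exact ⟨0, 0, by simp⟩
        | tmul r p =>
          obtain ⟨i, hi, s, hs, hr⟩ := Submodule.mem_sup.mp r.2
          obtain ⟨c, rfl⟩ := Ideal.mem_span_singleton'.mp hs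
          refine ⟨(⟨i, hi⟩ : I) ⊗ₜ p, c • p, ?_⟩
          rw [show r = inc ⟨i, hi⟩ + c • (⟨a, haJ⟩ : J) from Subtype.ext hr.symm, add_tmul,
            LinearMap.rTensor_tmul, ← smul_tmul]
        | add p q hp hq =>
          obtain ⟨y, m, rfl⟩ := hp
          obtain ⟨y', m', rfl⟩ := hq
          exact ⟨y + y', m + m', by rw [map_add, tmul_add]; abel⟩
      rw [injective_iff_map_eq_zero]
      intro z hz
      obtain ⟨y, m, rfl⟩ := hdec z
      rw [map_add, hcomp, Flat.Criteria.mu_tmul] at hz
      have hm : m ∈ I • (⊤ : Submodule R M) := by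
        rw [← Submodule.Quotient.mk_eq_zero]
        refine hreg.1.right_eq_zero_of_smul ?_
        rw [← Submodule.Quotient.mk_smul, Submodule.Quotient.mk_eq_zero,
          show a • m = -Flat.Criteria.mu I M y from eq_neg_of_add_eq_zero_right hz]
        refine Submodule.neg_mem _ ?_
        clear hz
        induction y using TensorProduct.induction_on with
        | zero => simp
        | tmul r p => rw [Flat.Criteria.mu_tmul]; exact Submodule.smul_mem_smul r.2 trivial
        | add p q hp hq => rw [map_add]; exact add_mem hp hq
      obtain ⟨w, rfl⟩ := Flat.Criteria.exists_mu_eq I hm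
      have hw : (⟨a, haJ⟩ : J) ⊗ₜ Flat.Criteria.mu I M w = inc.rTensor M (a • w) := by
        clear hz hm
        induction w using TensorProduct.induction_on with
        | zero => simp
        | tmul r p =>
          rw [Flat.Criteria.mu_tmul, ← smul_tmul, map_smul, LinearMap.rTensor_tmul, smul_tmul']
          congr 1
          exact Subtype.ext (mul_comm _ _)
        | add p q hp hq => simp only [map_add, tmul_add, smul_add, hp, hq]
      have h0 : y + a • w = 0 := by
        refine h ?_
        rw [map_add, map_zero, map_smul]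
        exact hz
      rw [hw, ← map_add, h0, map_zero]
    · refine (LinearEquiv.isWeaklyRegular_congr ?_ l).mp hreg.2
      refine (Submodule.Quotient.equiv _ _ (LinearEquiv.refl R _) ?_).trans
        (Submodule.quotientQuotientEquivQuotient (I • (⊤ : Submodule R M)) (J • ⊤)
          (Submodule.smul_mono le_sup_left le_rfl))
      rw [Submodule.sup_smul, Submodule.map_sup, Submodule.mkQ_map_self, bot_sup_eq,
        Submodule.ideal_span_singleton_smul, Submodule.map_pointwise_smul, Submodule.map_top,
        Submodule.map_pointwise_smul, Submodule.map_top, Submodule.range_mkQ]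
      simp

/-- Cohen-Macaulay of the right dimension over a regular local ring, closed fibre of dimension zero: flat. -/
theorem flat_of_cm [LocCoh.IsCohenMacaulayLocalRing S] [IsLocalHom (algebraMap R S)]
    (hprim : maximalIdeal S ≤ ((maximalIdeal R).map (algebraMap R S)).radical)
    (hdim : ringKrullDim R ≤ ringKrullDim S) : Module.Flat R S := by
  obtain ⟨l, hgen, -, hd⟩ := isRegular_generators R
  have hdS : ringKrullDim S = l.length := le_antisymm (hd ▸ ringKrullDim_le hprim) (hd ▸ hdim)
  have hreg : IsWeaklyRegular S (l.map (algebraMap R S)) := by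
    refine CMLocal.SOP.sop_isWeaklyRegular l.length hdS _ (by simp) (fun x hx => ?_) ?_
    · obtain ⟨a, ha, rfl⟩ := List.mem_map.mp hx
      exact map_nonunit _ a (hgen ▸ Ideal.subset_span ha)
    · rwa [← Ideal.map_ofList, hgen]
  rw [isWeaklyRegular_map_algebraMap_iff] at hreg
  have hmu : Function.Injective (Flat.Criteria.mu (maximalIdeal R) S) := by
    have h0 : Function.Injective (Flat.Criteria.mu (⊥ : Ideal R) S) := fun p q _ => Subsingleton.elim _ _
    have h := mu_injective l ⊥ h0 ((LinearEquiv.isWeaklyRegular_congr
      ((Submodule.quotEquivOfEqBot _ (Submodule.bot_smul _)).symm) l).mp hreg)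
    rw [bot_sup_eq, hgen] at h
    exact h
  refine Flat.Criteria.local_criterion (S := S) (maximalIdeal R) ?_ (Function.Injective.of_comp hmu) ?_
  · rw [IsLocalRing.jacobson_eq_maximalIdeal ⊥ bot_ne_top]
    exact Ideal.map_le_iff_le_comap.mpr fun a ha => map_nonunit _ a ha
  · letI := Ideal.Quotient.field (maximalIdeal R)
    exact Module.Flat.of_free

end Groth.Agent.CMFlat.Algebra
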