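import Mathlib
import Groth.Agent.CMFlat.Algebra
import Groth.Agent.Equidim.AffineParam
import Groth.Agent.IdealDepth.CM

/-! Quasi-finite morphisms from schemes over a field to affine space: flatness is Cohen-Macaulayness. -/

set_option autoImplicit false
set_option backward.isDefEq.respectTransparency false
universe u
open CategoryTheory AlgebraicGeometry TopologicalSpace Topology IsLocalRing

namespace Groth.Agent.CMFlat.Fibre

/-- Only the closed point lies over the closed point at a quasi-finite point. -/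
theorem primary {Z P : Scheme.{u}} (h : Z ⟶ P) [LocallyQuasiFinite h] (z : Z) :
    maximalIdeal (Z.presheaf.stalk z) ≤
      ((maximalIdeal (P.presheaf.stalk (h z))).map (h.stalkMap z).hom).radical := by
  rw [Ideal.radical_eq_sInf]
  refine le_sInf fun Q hQ => ?_
  obtain ⟨hQle, hQp⟩ := hQ
  let q : PrimeSpectrum (Z.presheaf.stalk z) := ⟨Q, hQp⟩
  have h1 : PrimeSpectrum.comap (h.stalkMap z).hom q = closedPoint (P.presheaf.stalk (h z)) :=
    PrimeSpectrum.ext (le_antisymm (le_maximalIdeal (hQp.comap _).ne_top) (Ideal.map_le_iff_le_comap.mp hQle))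
  let q' : ↥(Spec (Z.presheaf.stalk z)) := q
  have h2 : h (Z.fromSpecStalk z q') = h z := by
    show (Z.fromSpecStalk z ≫ h) q' = _
    rw [← Scheme.SpecMap_stalkMap_fromSpecStalk]
    show P.fromSpecStalk (h z) (PrimeSpectrum.comap (h.stalkMap z).hom q) = _
    rw [h1]; exact Scheme.fromSpecStalk_closedPoint
  have h3 : Z.fromSpecStalk z q' ⤳ z := by
    have := (Scheme.range_fromSpecStalk (X := Z) (x := z)).subset ⟨q', rfl⟩
    exact this
  have h4 : Z.fromSpecStalk z q' = z :=
    (h.isDiscrete_preimage_singleton (h z)).eq_of_specializes h3 h2 rfl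
  have h5 : q = closedPoint (Z.presheaf.stalk z) :=
    (Z.fromSpecStalk z).isEmbedding.injective (h4.trans Scheme.fromSpecStalk_closedPoint.symm)
  exact (congrArg PrimeSpectrum.asIdeal h5).ge

variable {K : Type u} [Field K] {d : ℕ} {Z : Scheme.{u}}
  (h : Z ⟶ Spec (CommRingCat.of (MvPolynomial (ULift.{u} (Fin d)) K)))
  [LocallyOfFiniteType h] [LocallyQuasiFinite h]

/-- Stalks of regular affine schemes are regular. -/
theorem isRegular_stalk' (R : Type u) [CommRing R] [IsRegularRing R] (y : ↥(Spec (CommRingCat.of R))) :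
    IsRegularLocalRing ((Spec (CommRingCat.of R)).presheaf.stalk y) := by
  let q : PrimeSpectrum R := y
  show IsRegularLocalRing ((Spec.structureSheaf R).presheaf.stalk q)
  exact IsRegularLocalRing.of_ringEquiv (IsLocalization.algEquiv q.asIdeal.primeCompl
    (Localization.AtPrime q.asIdeal) ((Spec.structureSheaf R).presheaf.stalk q)).toRingEquiv

theorem isRegular_stalk (y : ↥(Spec (CommRingCat.of (MvPolynomial (ULift.{u} (Fin d)) K)))) :
    IsRegularLocalRing ((Spec (CommRingCat.of (MvPolynomial (ULift.{u} (Fin d)) K))).presheaf.stalk y) :=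
  isRegular_stalk' _ y

set_option maxHeartbeats 1000000 in
theorem cm_of_flat (z : Z) (hfl : (h.stalkMap z).hom.Flat) :
    LocCoh.IsCohenMacaulayLocalRing (Z.presheaf.stalk z) := by
  haveI := isRegular_stalk (h z)
  haveI : IsLocallyNoetherian Z := LocallyOfFiniteType.isLocallyNoetherian h
  letI := (h.stalkMap z).hom.toAlgebra
  haveI : Module.Flat ((Spec (CommRingCat.of (MvPolynomial (ULift.{u} (Fin d)) K))).presheaf.stalk (h z))
      (Z.presheaf.stalk z) := hfl
  haveI : IsLocalHom (algebraMap ((Spec (CommRingCat.of (MvPolynomial (ULift.{u} (Fin d)) K))).presheaf.stalk (h z))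
      (Z.presheaf.stalk z)) := inferInstanceAs (IsLocalHom (h.stalkMap z).hom)
  exact Algebra.cm_of_flat (primary h z)

set_option maxHeartbeats 1000000 in
/-- Enough parameters: the dimension of the local ring is not below that of the image. -/
theorem dim_le (z : Z) (hd : (d : WithBot ℕ∞) ≤ FlatMor.localDim Z z) :
    ringKrullDim ((Spec (CommRingCat.of (MvPolynomial (ULift.{u} (Fin d)) K))).presheaf.stalk (h z)) ≤
      ringKrullDim (Z.presheaf.stalk z) := by
  let R := MvPolynomial (ULift.{u} (Fin d)) K
  haveI : IsLocallyNoetherian Z := LocallyOfFiniteType.isLocallyNoetherian h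
  obtain ⟨O, hzO, hO⟩ := Equidim.AffineParam.exists_nhd_gen z
  obtain ⟨W, hW, hzW, hWO⟩ := exists_isAffineOpen_mem_and_subset (U := O) (x := z) hzO
  let F := Γ(Z, W)
  let φ := Spec.preimage (hW.fromSpec ≫ h)
  have hφ : Spec.map φ = hW.fromSpec ≫ h := Spec.map_preimage _
  haveI : LocallyOfFiniteType (Spec.map φ) := by rw [hφ]; infer_instance
  letI : Algebra K F := (φ.hom.comp MvPolynomial.C).toAlgebra
  haveI : Algebra.FiniteType K F :=
    RingHom.FiniteType.comp ((HasRingHomProperty.Spec_iff (P := @LocallyOfFiniteType)).mp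
      (inferInstance : LocallyOfFiniteType (Spec.map φ)))
      (RingHom.finiteType_algebraMap.mpr (inferInstance : Algebra.FiniteType K R))
  haveI : IsNoetherianRing F := IsLocallyNoetherian.component_noetherian ⟨W, hW⟩
  let M : PrimeSpectrum F := hW.primeIdealOf ⟨z, hzW⟩
  have hM : hW.fromSpec M = z := hW.fromSpec_primeIdealOf _
  let P : PrimeSpectrum R := PrimeSpectrum.comap φ.hom M
  have hP : (P : ↥(Spec (CommRingCat.of R))) = h z := by
    rw [← hM]
    show Spec.map φ M = _
    rw [hφ]; rfl
  have hmono : StrictMono (PrimeSpectrum.comap φ.hom : PrimeSpectrum F → PrimeSpectrum R) := fun a b hab => by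
    refine lt_of_le_of_ne (Ideal.comap_mono hab.le) fun e => hab.ne ?_
    have hsp : hW.fromSpec a ⤳ hW.fromSpec b :=
      ((PrimeSpectrum.le_iff_specializes a b).mp hab.le).map hW.fromSpec.continuous
    have he : ∀ c : PrimeSpectrum F, h (hW.fromSpec c) = PrimeSpectrum.comap φ.hom c := fun c => by
      show (hW.fromSpec ≫ h) c = _
      rw [← hφ]; rfl
    exact hW.fromSpec.isOpenEmbedding.injective
      ((h.isDiscrete_preimage_singleton (h (hW.fromSpec b))).eq_of_specializes hsp
        (((he a).trans e).trans (he b).symm) rfl)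
  -- dimension of the affine neighbourhood
  have hF : (d : WithBot ℕ∞) ≤ (M.asIdeal.height : WithBot ℕ∞) + ringKrullDim (F ⧸ M.asIdeal) := by
    refine hd.trans ((TopDim.Basic.localDim_le z W hzW).trans ?_)
    have he : IsEmbedding (hW.fromSpec : ↥(Spec F) → Z) := hW.fromSpec.isOpenEmbedding.isEmbedding
    refine (Equidim.dim_le_of_range (φ := (Subtype.val : ↥(W : Set Z) → Z)) IsInducing.subtypeVal he
      fun s => hW.range_fromSpec.superset s.2).trans ?_
    show topologicalKrullDim (PrimeSpectrum F) ≤ _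
    rw [PrimeSpectrum.topologicalKrullDim_eq_ringKrullDim]
    refine iSup_le fun (l : LTSeries (PrimeSpectrum F)) => ?_
    obtain ⟨η, hη, hle⟩ := Ideal.exists_minimalPrimes_le (bot_le (a := l.head.asIdeal))
    let η' : PrimeSpectrum F := ⟨η, hη.1.1⟩
    haveI := η'.2
    have hηM : η ≤ M.asIdeal := by
      refine (PrimeSpectrum.le_iff_specializes η' M).mpr (hW.fromSpec.isOpenEmbedding.isInducing.specializes_iff.mp ?_)
      rw [hM]
      refine hO _ (hWO (hW.range_fromSpec.subset ⟨η', rfl⟩)) fun p hp => ?_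
      obtain ⟨a', rfl⟩ := hW.range_fromSpec.superset (hp.mem_open W.isOpen (hW.range_fromSpec.subset ⟨η', rfl⟩))
      have := (PrimeSpectrum.le_iff_specializes (a' : PrimeSpectrum F) η').mpr
        (hW.fromSpec.isOpenEmbedding.isInducing.specializes_iff.mp hp)
      exact congrArg hW.fromSpec (PrimeSpectrum.ext (le_antisymm this (hη.2 ⟨(a' : PrimeSpectrum F).2, bot_le⟩ this)))
    refine le_trans ?_ (Equidim.Core.dim_le_height_add_quot K F η M.asIdeal hηM)
    rw [ringKrullDim_quotient]
    exact Order.LTSeries.length_le_krullDim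
      (LTSeries.mk l.length (fun i => (⟨l i, hle.trans (l.monotone (Fin.zero_le i))⟩ :
        (PrimeSpectrum.zeroLocus (η : Set F) : Set (PrimeSpectrum F)))) fun a b hab => l.strictMono hab)
  have hPd : (P.asIdeal.height : WithBot ℕ∞) + ringKrullDim (R ⧸ P.asIdeal) ≤ (d : ℕ) := by
    have hR : ringKrullDim R = (d : ℕ) := by
      rw [MvPolynomial.ringKrullDim_of_isNoetherianRing, ringKrullDim_eq_zero_of_field]
      simp
    refine le_trans ?_ hR.le
    rw [← IdealDepth.coheight_eq_ringKrullDim_quotient P,
      show P.asIdeal.height = Order.height P from PrimeSpectrum.height_eq_orderHeight P]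
    show _ ≤ Order.krullDim (PrimeSpectrum R)
    rw [Order.krullDim_eq_iSup_height_add_coheight_of_nonempty, ← WithBot.coe_add, WithBot.coe_le_coe]
    exact le_iSup (fun a : PrimeSpectrum R => Order.height a + Order.coheight a) P
  have hq : Order.coheight M ≤ Order.coheight P :=
    Order.coheight_le_coheight_apply_of_strictMono _ hmono M
  rw [← IdealDepth.coheight_eq_ringKrullDim_quotient M] at hF
  rw [← IdealDepth.coheight_eq_ringKrullDim_quotient P] at hPd
  have hS : ringKrullDim (Z.presheaf.stalk z) = M.asIdeal.height := by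
    letI := TopCat.Presheaf.algebra_section_stalk Z.presheaf (⟨z, hzW⟩ : W)
    haveI : IsLocalization.AtPrime (Z.presheaf.stalk z) M.asIdeal := hW.isLocalization_stalk ⟨z, hzW⟩
    exact IsLocalization.AtPrime.ringKrullDim_eq_height M.asIdeal (Z.presheaf.stalk z)
  have hRd : ringKrullDim ((Spec (CommRingCat.of R)).presheaf.stalk (h z)) = P.asIdeal.height := by
    rw [← hP]
    show ringKrullDim ((Spec.structureSheaf R).presheaf.stalk P) = _
    exact IsLocalization.AtPrime.ringKrullDim_eq_height P.asIdeal _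
  rw [hS, hRd, WithBot.coe_le_coe]
  rw [← WithBot.coe_natCast, ← WithBot.coe_add, WithBot.coe_le_coe] at hF hPd
  have hfin : Order.coheight M ≠ ⊤ := fun e => by
    have h1 : (⊤ : ℕ∞) ≤ (d : ℕ∞) := (top_le_iff.mpr (top_le_iff.mp (e ▸ hq))).trans ((le_add_self).trans hPd)
    exact ENat.natCast_ne_top d (top_le_iff.mp h1)
  have : P.asIdeal.height + Order.coheight M ≤ M.asIdeal.height + Order.coheight M :=
    le_trans (le_trans (add_le_add le_rfl hq) hPd) hF
  exact (WithTop.add_le_add_iff_right hfin).mp this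

set_option maxHeartbeats 1000000 in
theorem flat_of_cm (z : Z) [LocCoh.IsCohenMacaulayLocalRing (Z.presheaf.stalk z)]
    (hd : (d : WithBot ℕ∞) ≤ FlatMor.localDim Z z) : (h.stalkMap z).hom.Flat := by
  haveI := isRegular_stalk (h z)
  letI := (h.stalkMap z).hom.toAlgebra
  haveI : IsLocalHom (algebraMap ((Spec (CommRingCat.of (MvPolynomial (ULift.{u} (Fin d)) K))).presheaf.stalk (h z))
      (Z.presheaf.stalk z)) := inferInstanceAs (IsLocalHom (h.stalkMap z).hom)
  exact Algebra.flat_of_cm (primary h z) (dim_le h z hd)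

end Groth.Agent.CMFlat.Fibre
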