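import Mathlib
import Groth.Prelude.Def_MoreMor
import Groth.Agent.CMFlat.Fibre
import Groth.Agent.Equidim.AffineCrit
import Groth.Agent.Flat.FibreAt
import Groth.Agent.Segre.CM

/-! Cohen-Macaulay points of morphisms and flat quasi-finite parameters. -/

set_option autoImplicit false
set_option backward.isDefEq.respectTransparency false
universe u
open CategoryTheory AlgebraicGeometry TopologicalSpace Topology Limits

namespace Groth.Agent.CMFlat.Main

open Equidim in
set_option maxHeartbeats 1000000 in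
/-- Quasi-finite parameters near a point, as many as the dimension of its fibre. -/
theorem exists_param {X Y : Scheme.{u}} (f : X ⟶ Y) [LocallyOfFiniteType f] (x : X) :
    ∃ (d : ℕ) (U : X.Opens) (g : (U : Scheme.{u}) ⟶ 𝔸(ULift.{u} (Fin d); Y)),
      x ∈ U ∧ g ≫ (𝔸(ULift.{u} (Fin d); Y) ↘ Y) = U.ι ≫ f ∧ LocallyQuasiFinite g ∧
      (d : WithBot ℕ∞) ≤ FlatMor.fibreDimAt f x ∧ FlatMor.fibreDimAt f x ≤ (d : ℕ) := by
  obtain ⟨U₀, hU₀, hyU₀, -⟩ := exists_isAffineOpen_mem_and_subset (X := Y) (U := ⊤) (x := f x) trivial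
  obtain ⟨V, hV, hxV, hVU⟩ :=
    exists_isAffineOpen_mem_and_subset (X := X) (U := f ⁻¹ᵁ U₀) (x := x) hyU₀
  letI : Algebra Γ(Y, U₀) Γ(X, V) := (f.appLE U₀ V hVU).hom.toAlgebra
  haveI : Algebra.FiniteType Γ(Y, U₀) Γ(X, V) := finiteType_chart f hU₀ hV hVU rfl
  obtain ⟨d, b, r, hd, hxr, H⟩ := exists_params_at f hU₀ hV hVU rfl x hxV
  let R := Localization.Away r
  let j : Spec (CommRingCat.of R) ⟶ X :=
    Spec.map (CommRingCat.ofHom (algebraMap Γ(X, V) R)) ≫ hV.fromSpec
  haveI : IsOpenImmersion (Spec.map (CommRingCat.ofHom (algebraMap Γ(X, V) R))) :=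
    IsOpenImmersion.of_isLocalization r
  let ψ : MvPolynomial (ULift.{u} (Fin d)) Γ(Y, U₀) →+* R :=
    (algebraMap Γ(X, V) R).comp (MvPolynomial.aeval (fun i => b i.down) :
      MvPolynomial (ULift.{u} (Fin d)) Γ(Y, U₀) →ₐ[Γ(Y, U₀)] Γ(X, V)).toRingHom
  have hψC : ψ.comp MvPolynomial.C = (algebraMap Γ(X, V) R).comp (algebraMap Γ(Y, U₀) Γ(X, V)) := by
    refine RingHom.ext fun a => congrArg (algebraMap Γ(X, V) R) ?_
    exact MvPolynomial.aeval_C _ a
  have hψft : ψ.FiniteType := by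
    refine RingHom.FiniteType.of_comp_finiteType (f := MvPolynomial.C) ?_
    rw [hψC]
    exact RingHom.FiniteType.comp
      (RingHom.finiteType_algebraMap.mpr (IsLocalization.finiteType_of_monoid_fg (Submonoid.powers r) R))
      (RingHom.finiteType_algebraMap.mpr inferInstance)
  have hψqf : ψ.QuasiFinite := by
    letI := ψ.toAlgebra
    haveI : Algebra.FiniteType (MvPolynomial (ULift.{u} (Fin d)) Γ(Y, U₀)) R := hψft
    show Algebra.QuasiFinite _ R
    refine Algebra.QuasiFinite.iff_finite_comap_preimage_singleton.mpr fun p => ?_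
    haveI : IsNoetherianRing (p.asIdeal.Fiber R) :=
      Algebra.FiniteType.isNoetherianRing p.asIdeal.ResidueField _
    refine Set.finite_coe_iff.mp ?_
    rw [(PrimeSpectrum.preimageEquivFiber _ R p).finite_iff]
    refine Set.finite_univ_iff.mp (((minimalPrimes.finite_of_isNoetherianRing _).preimage
      (fun a _ b _ h => PrimeSpectrum.ext h)).subset fun M _ => ⟨⟨M.2, bot_le⟩, fun I hI hle => ?_⟩)
    let M' : PrimeSpectrum (p.asIdeal.Fiber R) := ⟨I, hI.1⟩
    let P := ((PrimeSpectrum.preimageOrderIsoFiber _ R p).symm M)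
    let P' := ((PrimeSpectrum.preimageOrderIsoFiber _ R p).symm M')
    have hP : P' ≤ P := (PrimeSpectrum.preimageOrderIsoFiber _ R p).symm.monotone hle
    suffices P' = P by
      have := (PrimeSpectrum.preimageOrderIsoFiber _ R p).symm.injective this
      rw [← this]
    refine Subtype.ext (PrimeSpectrum.localization_comap_injective R (Submonoid.powers r) (PrimeSpectrum.ext ?_))
    show P'.1.asIdeal.comap (algebraMap Γ(X, V) R) = P.1.asIdeal.comap (algebraMap Γ(X, V) R)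
    let bA : MvPolynomial (Fin d) Γ(Y, U₀) →ₐ[Γ(Y, U₀)] Γ(X, V) := MvPolynomial.aeval b
    letI := bA.toRingHom.toAlgebra
    haveI hQP : (P.1.asIdeal.comap (algebraMap Γ(X, V) R)).IsPrime := inferInstance
    haveI : Algebra.QuasiFiniteAt (MvPolynomial (Fin d) Γ(Y, U₀)) (P.1.asIdeal.comap (algebraMap Γ(X, V) R)) :=
      H ⟨_, hQP⟩ fun hr => P.1.2.ne_top (Ideal.eq_top_of_isUnit_mem _ hr
        (IsLocalization.map_units R (⟨r, Submonoid.mem_powers r⟩ : Submonoid.powers r)))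
    refine Algebra.QuasiFiniteAt.eq_of_le_of_under_eq (R := MvPolynomial (Fin d) Γ(Y, U₀))
      (Ideal.comap_mono hP) ?_
    have hren : ψ.comp (MvPolynomial.rename (R := Γ(Y, U₀)) (ULift.up : Fin d → ULift.{u} (Fin d))).toRingHom =
        (algebraMap Γ(X, V) R).comp bA.toRingHom := by
      refine RingHom.ext fun a => congrArg (algebraMap Γ(X, V) R) ?_
      exact MvPolynomial.aeval_rename _ _ a
    show (P'.1.asIdeal.comap (algebraMap Γ(X, V) R)).comap bA.toRingHom = (P.1.asIdeal.comap (algebraMap Γ(X, V) R)).comap bA.toRingHom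
    rw [Ideal.comap_comap, Ideal.comap_comap, ← hren, ← Ideal.comap_comap, ← Ideal.comap_comap]
    exact congrArg (Ideal.comap _) ((congrArg PrimeSpectrum.asIdeal P'.2).trans (congrArg PrimeSpectrum.asIdeal P.2).symm)
  haveI : LocallyQuasiFinite (Spec.map (CommRingCat.ofHom ψ)) :=
    (HasRingHomProperty.Spec_iff (P := @LocallyQuasiFinite)).mpr hψqf
  haveI : IsOpenImmersion (AffineSpace.map (ULift.{u} (Fin d)) hU₀.fromSpec) :=
    MorphismProperty.of_isPullback (AffineSpace.isPullback_map hU₀.fromSpec).flip inferInstance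
  let g : (j.opensRange : Scheme.{u}) ⟶ 𝔸(ULift.{u} (Fin d); Y) :=
    j.isoOpensRange.inv ≫ Spec.map (CommRingCat.ofHom ψ) ≫
      (AffineSpace.SpecIso (ULift.{u} (Fin d)) Γ(Y, U₀)).inv ≫ AffineSpace.map _ hU₀.fromSpec
  have hgq : g ≫ (𝔸(ULift.{u} (Fin d); Y) ↘ Y) = j.opensRange.ι ≫ f := by
    rw [← cancel_epi j.isoOpensRange.hom]
    simp only [g, Category.assoc, Iso.hom_inv_id_assoc, AffineSpace.map_over, AffineSpace.SpecIso_inv_over_assoc]
    rw [← Category.assoc, ← Spec.map_comp, ← CommRingCat.ofHom_comp, hψC, CommRingCat.ofHom_comp,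
      Spec.map_comp, Category.assoc, Scheme.Hom.isoOpensRange_hom_ι_assoc]
    simp only [j, Category.assoc]
    rw [← IsAffineOpen.SpecMap_appLE_fromSpec f hU₀ hV hVU]
    rfl
  haveI hgqf : LocallyQuasiFinite g := inferInstance
  refine ⟨d, j.opensRange, g, ?_, hgq, hgqf, hd, fibreDimAt_le_of_params f hU₀ hV hVU rfl b r H x hxr⟩
  obtain ⟨Q', hQ'⟩ := hV.range_fromSpec.superset hxV
  let Q : PrimeSpectrum Γ(X, V) := Q'
  replace hQ' : hV.fromSpec Q = x := hQ'
  have hrQ : r ∉ Q.asIdeal :=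
    (SetLike.ext_iff.mp (hV.fromSpec_preimage_basicOpen r) Q).mp (show hV.fromSpec Q ∈ X.basicOpen r by rw [hQ']; exact hxr)
  obtain ⟨P, hP⟩ : Q ∈ Set.range (PrimeSpectrum.comap (algebraMap Γ(X, V) R)) := by
    rw [PrimeSpectrum.localization_away_comap_range R r]; exact hrQ
  exact ⟨P, by rw [← hQ', ← hP]; rfl⟩

theorem flat_over {n : Type u} (S : Scheme.{u}) : Flat (𝔸(n; S) ↘ S) :=
  MorphismProperty.pullback_fst _ _ <| by
  have := isIso_of_isTerminal specULiftZIsTerminal.{u} terminalIsTerminal (terminal.from _)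
  rw [← terminal.comp_from (Spec.map (CommRingCat.ofHom MvPolynomial.C)),
    MorphismProperty.cancel_right_of_respectsIso (P := @Flat),
    HasRingHomProperty.Spec_iff (P := @Flat)]
  exact RingHom.flat_algebraMap_iff.mpr (inferInstance : Module.Flat (ULift.{u} ℤ) (MvPolynomial n (ULift.{u} ℤ)))

/-- Transport of the fibre local ring and its local dimension along an open immersion. -/
theorem fibre_open {X' X Y : Scheme.{u}} (j : X' ⟶ X) [IsOpenImmersion j] (f : X ⟶ Y) (x' : X') :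
    (LocCoh.IsCohenMacaulayLocalRing (((j ≫ f).fiber ((j ≫ f) x')).presheaf.stalk ((j ≫ f).asFiber x')) ↔
      LocCoh.IsCohenMacaulayLocalRing ((f.fiber (f (j x'))).presheaf.stalk (f.asFiber (j x')))) ∧
      FlatMor.fibreDimAt (j ≫ f) x' = FlatMor.fibreDimAt f (j x') := by
  let t := f (j x')
  let jt := MoreMor.fiberMap j f t
  haveI : IsOpenImmersion jt := MorphismProperty.of_isPullback (Flat.FibreAt.isPullback_fiberMap j f t) inferInstance
  let a : (j ≫ f).fiber t := (j ≫ f).asFiber x'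
  have ha : jt a = f.asFiber (j x') := by
    refine (f.fiberι t).isEmbedding.injective ?_
    rw [Scheme.Hom.fiberι_asFiber]
    show (jt ≫ f.fiberι t) a = _
    rw [show jt ≫ f.fiberι t = (j ≫ f).fiberι t ≫ j from pullback.lift_fst _ _ _]
    exact congrArg j ((j ≫ f).fiberι_asFiber x')
  refine ⟨?_, ?_⟩
  · rw [← ha]
    exact ⟨fun h => @Segre.CM.cmLocal_congr _ _ _ _ (asIso (jt.stalkMap a)).commRingCatIsoToRingEquiv.symm h,
      fun h => @Segre.CM.cmLocal_congr _ _ _ _ (asIso (jt.stalkMap a)).commRingCatIsoToRingEquiv h⟩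
  · show FlatMor.localDim ↥((j ≫ f).fiber t) a = FlatMor.localDim ↥(f.fiber t) (f.asFiber (j x'))
    rw [← ha]
    refine le_antisymm (le_iInf fun V => ?_) (le_iInf fun V => ?_)
    · refine (TopDim.Basic.localDim_le a (jt ⁻¹ᵁ V.1) V.2).trans ?_
      exact IsInducing.topologicalKrullDim_le
        (f := fun s : ↥(jt ⁻¹' (V.1 : Set _)) => (⟨jt s.1, s.2⟩ : (V.1 : Set _)))
        ((jt.isEmbedding.isInducing.comp IsInducing.subtypeVal).codRestrict _)
    · refine (TopDim.Basic.localDim_le (jt a) ⟨jt '' (V.1 : Set _), jt.isOpenEmbedding.isOpenMap _ V.1.isOpen⟩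
        ⟨a, V.2, rfl⟩).trans ?_
      exact Equidim.dim_le_of_range (φ := (Subtype.val : ↥(jt '' (V.1 : Set _)) → _)) IsInducing.subtypeVal
        (g := fun s : (V.1 : Set _) => jt s.1) (jt.isEmbedding.comp IsEmbedding.subtypeVal)
        fun ⟨_, s, hs, e⟩ => ⟨⟨s, hs⟩, e⟩

variable {d : ℕ} {U Y : Scheme.{u}}

/-- Affine space over the residue field. -/
noncomputable def chartIso (t : Y) :
    (𝔸(ULift.{u} (Fin d); Y) ↘ Y).fiber t ≅
      Spec (CommRingCat.of (MvPolynomial (ULift.{u} (Fin d)) (Y.residueField t))) :=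
  (AffineSpace.isPullback_map (n := ULift.{u} (Fin d)) (Y.fromSpecResidueField t)).isoPullback.symm ≪≫
    AffineSpace.SpecIso _ (Y.residueField t)

variable (g : U ⟶ 𝔸(ULift.{u} (Fin d); Y))

set_option maxHeartbeats 1000000 in
theorem fibre_iff [LocallyQuasiFinite g]
    [LocallyOfFinitePresentation (g ≫ (𝔸(ULift.{u} (Fin d); Y) ↘ Y))] (w : U) :
    ((g.stalkMap w).hom.Flat → ((g ≫ (𝔸(ULift.{u} (Fin d); Y) ↘ Y)).stalkMap w).hom.Flat ∧
      LocCoh.IsCohenMacaulayLocalRing (((g ≫ (𝔸(ULift.{u} (Fin d); Y) ↘ Y)).fiber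
        ((g ≫ (𝔸(ULift.{u} (Fin d); Y) ↘ Y)) w)).presheaf.stalk
        ((g ≫ (𝔸(ULift.{u} (Fin d); Y) ↘ Y)).asFiber w))) ∧
    (((g ≫ (𝔸(ULift.{u} (Fin d); Y) ↘ Y)).stalkMap w).hom.Flat →
      LocCoh.IsCohenMacaulayLocalRing (((g ≫ (𝔸(ULift.{u} (Fin d); Y) ↘ Y)).fiber
        ((g ≫ (𝔸(ULift.{u} (Fin d); Y) ↘ Y)) w)).presheaf.stalk
        ((g ≫ (𝔸(ULift.{u} (Fin d); Y) ↘ Y)).asFiber w)) →
      (d : WithBot ℕ∞) ≤ FlatMor.fibreDimAt (g ≫ (𝔸(ULift.{u} (Fin d); Y) ↘ Y)) w →
      (g.stalkMap w).hom.Flat) := by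
  let π := 𝔸(ULift.{u} (Fin d); Y) ↘ Y
  let t := π (g w)
  haveI : LocallyOfFinitePresentation g := Mor.Cancel.locallyOfFinitePresentation_of_comp g π
  haveI : Flat π := flat_over Y
  let fm := MoreMor.fiberMap g π t
  haveI : LocallyOfFinitePresentation fm :=
    MorphismProperty.of_isPullback (Flat.FibreAt.isPullback_fiberMap g π t) inferInstance
  haveI : LocallyQuasiFinite fm :=
    MorphismProperty.of_isPullback (Flat.FibreAt.isPullback_fiberMap g π t) inferInstance
  let h := fm ≫ (chartIso t).hom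
  let a : (g ≫ π).fiber t := (g ≫ π).asFiber w
  have hfl : (h.stalkMap a).hom.Flat ↔ (fm.stalkMap a).hom.Flat := by
    rw [show h.stalkMap a = (chartIso t).hom.stalkMap (fm a) ≫ fm.stalkMap a from Scheme.Hom.stalkMap_comp _ _ _]
    constructor
    · intro h1
      have h2 : fm.stalkMap a = inv ((chartIso t).hom.stalkMap (fm a)) ≫ ((chartIso t).hom.stalkMap (fm a) ≫ fm.stalkMap a) := by
        simp
      rw [h2, CommRingCat.hom_comp]
      exact (RingHom.Flat.of_bijective (ConcreteCategory.bijective_of_isIso _)).comp h1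
    · intro h1
      rw [CommRingCat.hom_comp]
      exact (RingHom.Flat.of_bijective (ConcreteCategory.bijective_of_isIso _)).comp h1
  have key := Flat.FibreAt.flat_stalkMap_iff_fibre g π w
  refine ⟨fun hg => ?_, fun hq hCM hd => ?_⟩
  · obtain ⟨h1, h2⟩ := key.mpr ⟨Flat.stalkMap π _, hg⟩
    exact ⟨h1, Fibre.cm_of_flat h a (hfl.mpr h2)⟩
  · haveI : LocCoh.IsCohenMacaulayLocalRing (((g ≫ π).fiber t).presheaf.stalk a) := hCM
    exact (key.mp ⟨hq, hfl.mp (Fibre.flat_of_cm h a hd)⟩).2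

end Groth.Agent.CMFlat.Main
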