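import Mathlib
import Groth.Agent.CMFlat.Main
import Groth.Agent.IdealDepth.CM

/-! The Cohen-Macaulay locus of a morphism. -/

set_option autoImplicit false
set_option backward.isDefEq.respectTransparency false
universe u
open CategoryTheory AlgebraicGeometry TopologicalSpace Topology Limits

namespace Groth.Agent.CMFlat.Locus

variable {X Y : Scheme.{u}} (f : X ⟶ Y) [LocallyOfFinitePresentation f]

/-- Flat quasi-finite parameters give Cohen-Macaulay points. -/
theorem isCMAt_of_param {n : ℕ} (U : X.Opens) (g : (U : Scheme.{u}) ⟶ 𝔸(ULift.{u} (Fin n); Y))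
    (hgq : g ≫ (𝔸(ULift.{u} (Fin n); Y) ↘ Y) = U.ι ≫ f) [LocallyQuasiFinite g] (w : (U : Scheme.{u}))
    (hg : (g.stalkMap w).hom.Flat) : MoreMor.IsCMAt f (U.ι w) := by
  haveI : LocallyOfFinitePresentation (g ≫ (𝔸(ULift.{u} (Fin n); Y) ↘ Y)) := by rw [hgq]; infer_instance
  have h := (Main.fibre_iff g w).1 hg
  rw [hgq] at h
  exact ⟨(Flat.FibreAt.flat_stalkMap_comp_iff U.ι f w).mp h.1, (Main.fibre_open U.ι f w).1.mp h.2⟩

/-- Cohen-Macaulay points have flat quasi-finite parameters. -/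
theorem exists_flat_param (x : X) (hcm : MoreMor.IsCMAt f x) :
    ∃ (d : ℕ) (U : X.Opens) (g : (U : Scheme.{u}) ⟶ 𝔸(ULift.{u} (Fin d); Y)),
      x ∈ U ∧ g ≫ (𝔸(ULift.{u} (Fin d); Y) ↘ Y) = U.ι ≫ f ∧ AlgebraicGeometry.Flat g ∧ LocallyQuasiFinite g ∧
      FlatMor.fibreDimAt f x = (d : ℕ) := by
  obtain ⟨d, U, g, hxU, hgq, hqf, hd, hd'⟩ := Main.exists_param f x
  haveI : LocallyOfFinitePresentation (g ≫ (𝔸(ULift.{u} (Fin d); Y) ↘ Y)) := by rw [hgq]; infer_instance
  haveI : LocallyOfFinitePresentation g := Mor.Cancel.locallyOfFinitePresentation_of_comp g (𝔸(ULift.{u} (Fin d); Y) ↘ Y)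
  let w : (U : Scheme.{u}) := (⟨x, hxU⟩ : U)
  obtain ⟨h1, h2⟩ := Main.fibre_open U.ι f w
  have hw : (g.stalkMap w).hom.Flat := by
    refine (Main.fibre_iff g w).2 ?_ ?_ ?_
    · rw [hgq]; exact (Flat.FibreAt.flat_stalkMap_comp_iff U.ι f w).mpr hcm.1
    · rw [hgq]; exact h1.mpr hcm.2
    · rw [hgq, h2]; exact hd
  let O : (U : Scheme.{u}).Opens := ⟨_, Flat.FibreAt.isOpen_flat_stalkMap g⟩
  refine ⟨d, U.ι ''ᵁ O, (U.ι.isoImage O).inv ≫ O.ι ≫ g, ⟨w, hw, rfl⟩, ?_, ?_, inferInstance, le_antisymm hd' hd⟩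
  · rw [Category.assoc, Category.assoc, hgq, Scheme.Hom.isoImage_inv_ι_assoc]
  · haveI : AlgebraicGeometry.Flat (O.ι ≫ g) :=
      Flat.of_stalkMap _ fun z => (Flat.FibreAt.flat_stalkMap_comp_iff O.ι g z).mpr z.2
    infer_instance

theorem isOpen_cm : IsOpen {x : X | MoreMor.IsCMAt f x} := by
  refine isOpen_iff_forall_mem_open.mpr fun x hx => ?_
  obtain ⟨d, U, g, hxU, hgq, hfl, hqf, -⟩ := exists_flat_param f x hx
  exact ⟨U, fun z hz => isCMAt_of_param f U g hgq ⟨z, hz⟩ (AlgebraicGeometry.Flat.stalkMap g _), U.isOpen, hxU⟩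

/-- Maximal points of a fibre are Cohen-Macaulay. -/
theorem isCMAt_of_maximal [AlgebraicGeometry.Flat f] (x : X)
    (hmax : ∀ p : ↥(f.fiber (f x)), p ⤳ f.asFiber x → p = f.asFiber x) : MoreMor.IsCMAt f x := by
  refine ⟨AlgebraicGeometry.Flat.stalkMap f x, ?_⟩
  let P := f.fiber (f x)
  haveI : LocallyOfFiniteType (f.fiberToSpecResidueField (f x)) :=
    MorphismProperty.pullback_snd (P := @LocallyOfFiniteType) _ _ inferInstance
  haveI : IsLocallyNoetherian P := LocallyOfFiniteType.isLocallyNoetherian (f.fiberToSpecResidueField (f x))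
  let S := P.presheaf.stalk (f.asFiber x)
  haveI : IsNoetherianRing S := inferInstance
  have h0 : ringKrullDim S ≤ 0 := by
    refine Order.krullDim_nonpos_iff_forall_isMax.mpr fun (q : PrimeSpectrum S) q' hle => ?_
    have key : ∀ r : PrimeSpectrum S, r = IsLocalRing.closedPoint S := fun r => by
      let r' : ↥(Spec S) := r
      have h1 : P.fromSpecStalk (f.asFiber x) r' ⤳ f.asFiber x :=
        (Scheme.range_fromSpecStalk (X := P) (x := f.asFiber x)).subset ⟨r', rfl⟩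
      exact (P.fromSpecStalk (f.asFiber x)).isEmbedding.injective
        ((hmax _ h1).trans Scheme.fromSpecStalk_closedPoint.symm)
    rw [key q, key q']
  refine ⟨le_antisymm ?_ (IdealDepth.depth_le_supportDim (R := S) (M := S))⟩
  rw [Module.supportDim_self_eq_ringKrullDim]
  refine h0.trans ?_
  exact WithBot.coe_le_coe.mpr zero_le

end Groth.Agent.CMFlat.Locus
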