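import Mathlib

/-! Monic polynomials in separate variables form a regular sequence with flat quotient. -/

set_option autoImplicit false
set_option backward.isDefEq.respectTransparency false
universe u
open RingTheory.Sequence TensorProduct
open scoped Pointwise

namespace Groth.Agent.CMFlat.MonicSeq

/-- The polynomials `P_i(X_i)`. -/
noncomputable def seq {n : ℕ} {A : Type u} [CommRing A] (P : Fin n → Polynomial A) :
    List (MvPolynomial (Fin n) A) :=
  List.ofFn fun i => Polynomial.aeval (MvPolynomial.X i) (P i)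

theorem step (A R' R : Type u) [CommRing A] [CommRing R'] [CommRing R] [Algebra A R'] [Algebra A R]
    (e : R ≃ₐ[A] Polynomial R') (F0 : R) (hG : (e F0).Monic) (L : List R) (L' : List R')
    (hL : L.map e = L'.map Polynomial.C) (ih1 : IsWeaklyRegular R' L')
    (ih2 : Module.Flat A (R' ⧸ Ideal.ofList L')) :
    IsWeaklyRegular R (F0 :: L) ∧ Module.Flat A (R ⧸ Ideal.ofList (F0 :: L)) := by
  let G := e F0
  let B := AdjoinRoot G
  haveI : Module.Free R' B := hG.free_adjoinRoot
  letI : Algebra R B := ((AdjoinRoot.mk G).comp e.toRingHom).toAlgebra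
  haveI : IsScalarTower A R B := IsScalarTower.of_algebraMap_eq fun a => by
    show algebraMap A B a = AdjoinRoot.mk G (e (algebraMap A R a))
    rw [AlgEquiv.commutes]; rfl
  have hsurj : Function.Surjective (algebraMap R B) := AdjoinRoot.mk_surjective.comp e.surjective
  have hker : RingHom.ker (algebraMap R B) = Ideal.span {F0} := by
    ext r
    rw [RingHom.mem_ker, show algebraMap R B r = AdjoinRoot.mk G (e r) from rfl, AdjoinRoot.mk_eq_zero,
      Ideal.mem_span_singleton]
    refine ⟨fun h => ?_, fun h => map_dvd e h⟩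
    have := map_dvd e.symm h
    rwa [AlgEquiv.symm_apply_apply, AlgEquiv.symm_apply_apply] at this
  have hmap : L.map (algebraMap R B) = L'.map (algebraMap R' B) := by
    rw [show L.map (algebraMap R B) = (L.map e).map (AdjoinRoot.mk G) by rw [List.map_map]; rfl, hL, List.map_map]
    rfl
  have hB : IsWeaklyRegular B (L'.map (algebraMap R' B)) := ih1.of_flat
  refine ⟨?_, ?_⟩
  · rw [isWeaklyRegular_cons_iff]
    refine ⟨?_, ?_⟩
    · intro a b hab
      refine e.injective (hG.isRegular.left ?_)
      show e F0 * e a = e F0 * e b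
      rw [← map_mul, ← map_mul]
      exact congrArg e hab
    · have hl : (Submodule.span R {F0} : Submodule R R) = LinearMap.ker (Algebra.linearMap R B) := by
        ext r; exact (SetLike.ext_iff.mp hker r).symm
      let eq0 : QuotSMulTop F0 R ≃ₗ[R] B :=
        (Submodule.quotEquivOfEq _ _ (by rw [← hl, ← Submodule.ideal_span_singleton_smul, smul_eq_mul, Ideal.mul_top])).trans
          ((Algebra.linearMap R B).quotKerEquivOfSurjective hsurj)
      rw [eq0.isWeaklyRegular_congr, ← isWeaklyRegular_map_algebraMap_iff (S := B), hmap]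
      exact hB
  · let J : Ideal R' := Ideal.ofList L'
    let JB : Ideal B := J.map (algebraMap R' B)
    haveI : Module.Flat A (R' ⧸ J) := ih2
    haveI : Module.Flat A ((R' ⧸ J) ⊗[R'] B) := Module.Flat.trans A (R' ⧸ J) _
    let ε : (B ⧸ JB) ≃ₗ[A] (R' ⧸ J) ⊗[R'] B :=
      ((Algebra.TensorProduct.quotIdealMapEquivTensorQuot B J).toLinearEquiv.restrictScalars A).trans
        ((TensorProduct.comm R' B (R' ⧸ J)).restrictScalars A)
    haveI : Module.Flat A (B ⧸ JB) := Module.Flat.of_linearEquiv ε
    let θ : R →ₐ[A] B ⧸ JB := (Ideal.Quotient.mkₐ A JB).comp (IsScalarTower.toAlgHom A R B)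
    have hθ : Function.Surjective θ := Ideal.Quotient.mk_surjective.comp hsurj
    have hθker : RingHom.ker θ = Ideal.ofList (F0 :: L) := by
      rw [show RingHom.ker θ = JB.comap (algebraMap R B) from Ideal.ext fun r => Ideal.Quotient.eq_zero_iff_mem]
      have : JB = (Ideal.ofList L).map (algebraMap R B) := by
        rw [Ideal.map_ofList, hmap, ← Ideal.map_ofList]
      rw [this, Ideal.comap_map_of_surjective _ hsurj, ← RingHom.ker_eq_comap_bot, hker, Ideal.ofList_cons, sup_comm]
    exact Module.Flat.of_linearEquiv (((Ideal.quotientEquivAlgOfEq A hθker).symm.trans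
      (Ideal.quotientKerAlgEquivOfSurjective hθ)).toLinearEquiv)

theorem main : ∀ (n : ℕ) (A : Type u) [CommRing A] (P : Fin n → Polynomial A), (∀ i, (P i).Monic) →
    IsWeaklyRegular (MvPolynomial (Fin n) A) (seq P) ∧
      Module.Flat A (MvPolynomial (Fin n) A ⧸ Ideal.ofList (seq P))
  | 0, A, _, P, _ => by
    rw [seq, List.ofFn_zero, Ideal.ofList_nil]
    exact ⟨IsWeaklyRegular.nil _ _, Module.Flat.of_linearEquiv (Submodule.quotEquivOfEqBot _ rfl |>.restrictScalars A)⟩
  | n + 1, A, _, P, hP => by
    obtain ⟨ih1, ih2⟩ := main n A (fun i => P i.succ) fun i => hP _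
    rw [show seq P = Polynomial.aeval (MvPolynomial.X 0) (P 0) ::
      List.ofFn fun i : Fin n => Polynomial.aeval (MvPolynomial.X i.succ) (P i.succ) from List.ofFn_succ]
    refine step A _ _ (MvPolynomial.finSuccEquiv A n) _ ?_ _ _ ?_ ih1 ih2
    · rw [← Polynomial.aeval_algHom_apply, MvPolynomial.finSuccEquiv_X_zero, Polynomial.aeval_X_left_eq_map]
      exact (hP 0).map _
    · rw [seq, List.map_ofFn, List.map_ofFn]
      refine congrArg List.ofFn (funext fun i => ?_)
      show MvPolynomial.finSuccEquiv A n (Polynomial.aeval (MvPolynomial.X i.succ) (P i.succ)) = Polynomial.C _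
      rw [← Polynomial.aeval_algHom_apply, MvPolynomial.finSuccEquiv_X_succ]
      exact Polynomial.aeval_algebraMap_apply (Polynomial (MvPolynomial (Fin n) A)) (MvPolynomial.X i) (P i.succ)

end Groth.Agent.CMFlat.MonicSeq
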