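import Mathlib
import Groth.Agent.CMFlat.MonicSeq
import Groth.Agent.Alg.MonicQuot

/-! Quasi-finite slices of flat quasi-finite algebras over polynomial rings. -/

set_option autoImplicit false
set_option backward.isDefEq.respectTransparency false
set_option synthInstance.maxHeartbeats 100000
universe u
open RingTheory.Sequence TensorProduct

namespace Groth.Agent.CMFlat.Slice

/-- Flatness and quasi-finiteness pass to the extended quotient. -/
theorem quot_map (A R S : Type u) [CommRing A] [CommRing R] [CommRing S] [Algebra A R] [Algebra A S]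
    [Algebra R S] [IsScalarTower A R S] [Module.Flat R S] [Algebra.QuasiFinite R S] (J : Ideal R)
    [Module.Flat A (R ⧸ J)] [Algebra.QuasiFinite A (R ⧸ J)] :
    Module.Flat A (S ⧸ J.map (algebraMap R S)) ∧ Algebra.QuasiFinite A (S ⧸ J.map (algebraMap R S)) := by
  constructor
  · haveI : Module.Flat A ((R ⧸ J) ⊗[R] S) := Module.Flat.trans A (R ⧸ J) _
    exact Module.Flat.of_linearEquiv
      (((Algebra.TensorProduct.quotIdealMapEquivTensorQuot S J).toLinearEquiv.restrictScalars A).trans
        ((TensorProduct.comm R S (R ⧸ J)).restrictScalars A))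
  · letI : Algebra (R ⧸ J) (S ⧸ J.map (algebraMap R S)) :=
      (Ideal.quotientMap _ (algebraMap R S) Ideal.le_comap_map).toAlgebra
    haveI : IsScalarTower R (R ⧸ J) (S ⧸ J.map (algebraMap R S)) := IsScalarTower.of_algebraMap_eq fun _ => rfl
    haveI : IsScalarTower A (R ⧸ J) (S ⧸ J.map (algebraMap R S)) := IsScalarTower.of_algebraMap_eq fun a => by
      show algebraMap A _ a = algebraMap (R ⧸ J) _ (Ideal.Quotient.mk J (algebraMap A R a))
      rw [IsScalarTower.algebraMap_apply A S (S ⧸ J.map (algebraMap R S)), IsScalarTower.algebraMap_apply A R S]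
      rfl
    haveI : Algebra.QuasiFinite R (S ⧸ J.map (algebraMap R S)) := Algebra.QuasiFinite.trans R S _
    haveI : Algebra.QuasiFinite (R ⧸ J) (S ⧸ J.map (algebraMap R S)) := Algebra.QuasiFinite.of_restrictScalars R _ _
    exact Algebra.QuasiFinite.trans A (R ⧸ J) _

/-- Algebraic relations at a closed point of a fibre. -/
theorem exists_poly {A B : Type u} [CommRing A] [CommRing B] [Algebra A B] [Algebra.FiniteType A B]
    (q : Ideal B) [q.IsPrime] (hmax : ∀ Q : Ideal B, Q.IsPrime → q ≤ Q → Q.under A = q.under A → Q = q)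
    (b : B) : ∃ P : Polynomial A, P.leadingCoeff ∉ q.under A ∧ Polynomial.aeval b P ∈ q := by
  classical
  let p := q.under A
  let K := p.ResidueField
  let P₀ : PrimeSpectrum A := ⟨p, inferInstance⟩
  let e := PrimeSpectrum.preimageOrderIsoFiber A B P₀
  let M := e ⟨⟨q, inferInstance⟩, rfl⟩
  haveI : M.asIdeal.IsMaximal := by
    obtain ⟨N, hN, hle⟩ := M.asIdeal.exists_le_maximal M.2.ne_top
    let N' : PrimeSpectrum (p.Fiber B) := ⟨N, hN.isPrime⟩
    have h1 : (⟨⟨q, inferInstance⟩, rfl⟩ : (PrimeSpectrum.comap (algebraMap A B)) ⁻¹' {P₀}) ≤ e.symm N' := by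
      rw [← e.le_iff_le, e.apply_symm_apply]; exact hle
    have h2 : (e.symm N').1.asIdeal = q :=
      hmax _ (e.symm N').1.2 h1 (congrArg PrimeSpectrum.asIdeal (e.symm N').2)
    have h3 : N' = M := by
      rw [← e.apply_symm_apply N']
      exact congrArg e (Subtype.ext (PrimeSpectrum.ext h2))
    rw [← h3]; exact hN
  haveI : Algebra.FiniteType K (p.Fiber B ⧸ M.asIdeal) := inferInstance
  letI := Ideal.Quotient.field M.asIdeal
  haveI : Module.Finite K (p.Fiber B ⧸ M.asIdeal) := finite_of_finite_type_of_isJacobsonRing K _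
  let π : B →ₐ[A] (p.Fiber B ⧸ M.asIdeal) :=
    (Ideal.Quotient.mkₐ A M.asIdeal).comp Algebra.TensorProduct.includeRight
  have hπ : ∀ z, π z = 0 → z ∈ q := fun z hz => by
    have hz' : (1 : K) ⊗ₜ[A] z ∈ M.asIdeal := Ideal.Quotient.eq_zero_iff_mem.mp hz
    have h := congrArg (fun w => w.1.asIdeal) (e.symm_apply_apply ⟨⟨q, inferInstance⟩, rfl⟩)
    rw [show q = ((e.symm M).1).asIdeal from h.symm]
    exact hz'
  -- a monic relation over the residue field
  obtain ⟨m, hm, hm0⟩ := Algebra.IsIntegral.isIntegral (R := K) (π b)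
  obtain ⟨a, ha⟩ := IsLocalization.integerNormalization_map_to_map (nonZeroDivisors (A ⧸ p)) m
  let P1 := IsLocalization.integerNormalization (nonZeroDivisors (A ⧸ p)) m
  obtain ⟨P, hP, hdeg⟩ := Polynomial.mem_lifts_and_degree_eq (f := Ideal.Quotient.mk p) (p := P1)
    (Polynomial.map_surjective _ Ideal.Quotient.mk_surjective P1)
  have hane : algebraMap (A ⧸ p) K (a : A ⧸ p) ≠ 0 := fun h => nonZeroDivisors.ne_zero a.2
    (IsFractionRing.injective (A ⧸ p) K (by rw [h, map_zero]))
  have hP1m : P1.map (algebraMap (A ⧸ p) K) = Polynomial.C (algebraMap (A ⧸ p) K (a : A ⧸ p)) * m := by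
    rw [ha, ← Polynomial.smul_eq_C_mul, algebraMap_smul]
  have hPmap : P.map (algebraMap A K) = Polynomial.C (algebraMap (A ⧸ p) K (a : A ⧸ p)) * m := by
    rw [← hP1m, ← hP, Polynomial.map_map]; rfl
  refine ⟨P, fun hl => ?_, hπ _ ?_⟩
  · have hd : (P.map (algebraMap A K)).degree = P.degree := by
      rw [hdeg, ← hP, ← Polynomial.degree_map_eq_of_injective (f := algebraMap (A ⧸ p) K) (IsFractionRing.injective _ _),
        Polynomial.map_map]
      rfl
    have hne : P.map (algebraMap A K) ≠ 0 := by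
      rw [hPmap]; exact mul_ne_zero (Polynomial.C_ne_zero.mpr hane) hm.ne_zero
    have h1 : (P.map (algebraMap A K)).leadingCoeff = algebraMap A K P.leadingCoeff := by
      rw [Polynomial.leadingCoeff, Polynomial.natDegree_eq_of_degree_eq hd, Polynomial.coeff_map]; rfl
    exact Polynomial.leadingCoeff_ne_zero.mpr hne (h1.trans (Ideal.algebraMap_residueField_eq_zero.mpr hl))
  · rw [← Polynomial.aeval_algHom_apply, ← Polynomial.aeval_map_algebraMap K, hPmap, map_mul,
      Polynomial.aeval_def (p := m), hm0, mul_zero]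

set_option maxHeartbeats 1000000 in
/-- The slice. -/
theorem main {A B : Type u} [CommRing A] [CommRing B] [Algebra A B] [Algebra.FiniteType A B] {n : ℕ}
    [Algebra (MvPolynomial (Fin n) A) B] [IsScalarTower A (MvPolynomial (Fin n) A) B]
    [Module.Flat (MvPolynomial (Fin n) A) B] [Algebra.QuasiFinite (MvPolynomial (Fin n) A) B]
    (q : Ideal B) [q.IsPrime] (hmax : ∀ Q : Ideal B, Q.IsPrime → q ≤ Q → Q.under A = q.under A → Q = q) :
    ∃ (S : Type u) (_ : CommRing S) (_ : Algebra A S) (_ : Algebra B S) (_ : IsScalarTower A B S)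
      (h : B) (_ : IsLocalization.Away h S) (L : List S),
      h ∉ q ∧ IsRegular S L ∧ Module.Flat A (S ⧸ Ideal.ofList L) ∧ Algebra.QuasiFinite A (S ⧸ Ideal.ofList L) ∧
      (∃ Q : Ideal S, Q.IsPrime ∧ Ideal.ofList L ≤ Q ∧ Q.under B = q) ∧
      ∀ Q : Ideal S, Q.IsPrime → Ideal.ofList L ≤ Q → Q.under A = q.under A → Q.under B = q := by
  classical
  let R := MvPolynomial (Fin n) A
  choose P hPl hPq using fun i : Fin n => exists_poly (A := A) q hmax (algebraMap R B (MvPolynomial.X i))
  let c := ∏ i, (P i).leadingCoeff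
  have hc : c ∉ q.under A := fun h => by
    obtain ⟨i, -, hi⟩ := Ideal.IsPrime.prod_mem_iff.mp h
    exact hPl i hi
  let A' := Localization.Away c
  let B₁ := Localization.Away (algebraMap A B c)
  letI : Algebra A' B₁ := (IsLocalization.Away.lift c (S := A') (g := algebraMap A B₁)
    (by rw [IsScalarTower.algebraMap_apply A B B₁]; exact IsLocalization.Away.algebraMap_isUnit _)).toAlgebra
  haveI : IsScalarTower A A' B₁ := IsScalarTower.of_algebraMap_eq fun a =>
    (IsLocalization.Away.lift_eq c _ a).symm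
  let x : Fin n → B₁ := fun i => algebraMap B B₁ (algebraMap R B (MvPolynomial.X i))
  let R' := MvPolynomial (Fin n) A'
  letI : Algebra R' B₁ := (MvPolynomial.aeval x : R' →ₐ[A'] B₁).toRingHom.toAlgebra
  haveI : IsScalarTower A' R' B₁ := IsScalarTower.of_algebraMap_eq fun a => ((MvPolynomial.aeval x).commutes a).symm
  letI : Algebra R R' := MvPolynomial.algebraMvPolynomial
  haveI : IsLocalization ((Submonoid.powers c).map (MvPolynomial.C (σ := Fin n))) R' :=
    MvPolynomial.isLocalization (Submonoid.powers c) A'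
  haveI : IsScalarTower R R' B₁ := IsScalarTower.of_algebraMap_eq' (by
    rw [IsScalarTower.algebraMap_eq R B B₁]
    refine MvPolynomial.ringHom_ext (fun a => ?_) fun i => ?_
    · show algebraMap B B₁ (algebraMap R B (algebraMap A R a)) =
        MvPolynomial.aeval x (MvPolynomial.map (algebraMap A A') (MvPolynomial.C a))
      rw [← IsScalarTower.algebraMap_apply A R B, ← IsScalarTower.algebraMap_apply A B B₁, MvPolynomial.map_C,
        MvPolynomial.aeval_C, ← IsScalarTower.algebraMap_apply A A' B₁]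
    · show x i = MvPolynomial.aeval x (MvPolynomial.map (algebraMap A A') (MvPolynomial.X i))
      rw [MvPolynomial.map_X, MvPolynomial.aeval_X])
  haveI : Module.Flat R B₁ := Module.Flat.trans R B B₁
  haveI : Module.Flat R' B₁ :=
    (Module.flat_iff_of_isLocalization R' ((Submonoid.powers c).map (MvPolynomial.C (σ := Fin n))) B₁).mpr inferInstance
  haveI : Algebra.QuasiFinite R B₁ := Algebra.QuasiFinite.trans R B B₁
  haveI : Algebra.QuasiFinite R' B₁ := Algebra.QuasiFinite.of_restrictScalars R _ _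
  -- the monic polynomials
  have hu : ∀ i, IsUnit (algebraMap A A' (P i).leadingCoeff) := fun i =>
    isUnit_of_dvd_unit (map_dvd _ (Finset.dvd_prod_of_mem (fun i => (P i).leadingCoeff) (Finset.mem_univ i)))
      (IsLocalization.Away.algebraMap_isUnit c)
  let P' : Fin n → Polynomial A' := fun i => Polynomial.C ((hu i).unit⁻¹ : A'ˣ).1 * (P i).map (algebraMap A A')
  have hP' : ∀ i, (P' i).Monic := fun i => by
    rcases subsingleton_or_nontrivial A' with h | h
    · exact Subsingleton.elim _ _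
    refine Polynomial.monic_C_mul_of_mul_leadingCoeff_eq_one ?_
    rw [Polynomial.leadingCoeff_map_of_leadingCoeff_ne_zero _ (hu i).ne_zero]
    exact (hu i).val_inv_mul
  obtain ⟨hreg, hflat⟩ := MonicSeq.main n A' P' hP'
  let J : Ideal R' := Ideal.ofList (MonicSeq.seq P')
  haveI : Module.Flat A' (R' ⧸ J) := hflat
  have hJ : J = Ideal.span (Set.range fun i => Polynomial.aeval (MvPolynomial.X i : R') (P' i)) := by
    show Ideal.span _ = _
    congr 1
    ext z
    simp [MonicSeq.seq, List.mem_ofFn]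
  haveI : Module.Finite A' (R' ⧸ J) := by
    rw [hJ]
    exact Alg.MonicQuot.finite P' hP' _ fun i => rfl
  obtain ⟨hfl, hqf⟩ := quot_map A' R' B₁ J
  let L₁ := (MonicSeq.seq P').map (algebraMap R' B₁)
  have hL₁ : J.map (algebraMap R' B₁) = Ideal.ofList L₁ := Ideal.map_ofList _ _
  haveI : Module.Flat A (B₁ ⧸ Ideal.ofList L₁) := by
    rw [← hL₁]
    haveI := hfl
    haveI := IsLocalization.flat A' (Submonoid.powers c)
    exact Module.Flat.trans A A' _
  haveI : Algebra.QuasiFinite A (B₁ ⧸ Ideal.ofList L₁) := by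
    rw [← hL₁]
    haveI := hqf
    exact Algebra.QuasiFinite.trans A A' _
  -- the point of `B₁`
  have hdisj : Disjoint ((Submonoid.powers (algebraMap A B c)) : Set B) (q : Set B) :=
    (Ideal.disjoint_powers_iff_notMem (algebraMap A B c) (Ideal.IsPrime.isRadical inferInstance)).mpr hc
  let q₁ := q.map (algebraMap B B₁)
  haveI : q₁.IsPrime := IsLocalization.isPrime_of_isPrime_disjoint (Submonoid.powers (algebraMap A B c)) B₁ q inferInstance hdisj
  have hq₁ : q₁.under B = q := IsLocalization.comap_map_of_isPrime_disjoint (Submonoid.powers (algebraMap A B c)) B₁ inferInstance hdisj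
  have hx : ∀ i, algebraMap R' B₁ (Polynomial.aeval (MvPolynomial.X i : R') (P' i)) ∈ q₁ := fun i => by
    rw [← Polynomial.aeval_algebraMap_apply, show algebraMap R' B₁ (MvPolynomial.X i) = x i from MvPolynomial.aeval_X x i]
    simp only [P', map_mul, Polynomial.aeval_C]
    refine Ideal.mul_mem_left _ _ ?_
    rw [Polynomial.aeval_map_algebraMap, Polynomial.aeval_algebraMap_apply]
    exact Ideal.mem_map_of_mem _ (hPq i)
  have hLq₁ : Ideal.ofList L₁ ≤ q₁ := by
    refine Ideal.span_le.mpr ?_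
    intro z hz
    obtain ⟨w, hw, rfl⟩ := List.mem_map.mp hz
    obtain ⟨i, rfl⟩ := (List.mem_ofFn' ..).mp hw
    exact hx i
  -- shrinking
  let T : Set (PrimeSpectrum (B₁ ⧸ Ideal.ofList L₁)) :=
    PrimeSpectrum.comap (algebraMap A (B₁ ⧸ Ideal.ofList L₁)) ⁻¹' {⟨q.under A, inferInstance⟩}
  have hT : T.Finite := Algebra.QuasiFinite.finite_comap_preimage_singleton _
  let q₂ : PrimeSpectrum (B₁ ⧸ Ideal.ofList L₁) := ⟨q₁.map (Ideal.Quotient.mk _),
    Ideal.map_isPrime_of_surjective Ideal.Quotient.mk_surjective (by rw [Ideal.mk_ker]; exact hLq₁)⟩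
  have hq₂ : q₂.asIdeal.comap (Ideal.Quotient.mk _) = q₁ := by
    show Ideal.comap _ (Ideal.map _ q₁) = q₁
    rw [Ideal.comap_map_of_surjective _ Ideal.Quotient.mk_surjective, ← RingHom.ker_eq_comap_bot, Ideal.mk_ker,
      sup_eq_left.mpr hLq₁]
  have hq₂A : q₂.asIdeal.under A = q.under A := by
    rw [show q₂.asIdeal.under A = (q₂.asIdeal.comap (Ideal.Quotient.mk _)).under A from rfl, hq₂,
      ← Ideal.under_under (B := B), hq₁]
  have hex : ∀ Q ∈ hT.toFinset.erase q₂, ∃ z, z ∈ Q.asIdeal ∧ z ∉ q₂.asIdeal := fun Q hQ => by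
    obtain ⟨hne, hQT⟩ := Finset.mem_erase.mp hQ
    haveI := Q.2
    haveI := q₂.2
    refine SetLike.not_le_iff_exists.mp fun hle => hne (PrimeSpectrum.ext ?_)
    exact Algebra.QuasiFinite.eq_of_le_of_under_eq (R := A) _ _ hle
      ((congrArg PrimeSpectrum.asIdeal (hT.mem_toFinset.mp hQT)).trans hq₂A.symm)
  choose z hzQ hzq using hex
  obtain ⟨h₁, hh₁⟩ := Ideal.Quotient.mk_surjective (∏ Q : hT.toFinset.erase q₂, z Q.1 Q.2)
  obtain ⟨⟨h₀, s⟩, hh₀⟩ := IsLocalization.surj (Submonoid.powers (algebraMap A B c)) h₁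
  let h := h₀ * algebraMap A B c
  let S := Localization.Away (algebraMap B B₁ h₀)
  haveI : IsLocalization.Away h S := IsLocalization.Away.mul B₁ S (algebraMap A B c) h₀
  have hh₁q : h₁ ∉ q₁ := fun hmem => by
    rw [← hq₂, Ideal.mem_comap, hh₁] at hmem
    obtain ⟨Q, -, hQ⟩ := (Ideal.IsPrime.prod_mem_iff (hp := q₂.2)).mp hmem
    exact hzq Q.1 Q.2 hQ
  have hhq : h ∉ q := fun hm => by
    rcases Ideal.IsPrime.mem_or_mem inferInstance hm with hm | hm
    · have : algebraMap B B₁ h₀ ∈ q₁ := Ideal.mem_map_of_mem _ hm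
      rw [← hh₀] at this
      rcases Ideal.IsPrime.mem_or_mem inferInstance this with hm' | hm'
      · exact hh₁q hm'
      · exact (inferInstance : q₁.IsPrime).ne_top (Ideal.eq_top_of_isUnit_mem _ hm' (IsLocalization.map_units _ s))
    · exact hc hm
  haveI : Module.Flat B₁ S := IsLocalization.flat S (Submonoid.powers (algebraMap B B₁ h₀))
  haveI : Algebra.QuasiFinite B₁ S := Algebra.QuasiFinite.of_isLocalization (Submonoid.powers (algebraMap B B₁ h₀))
  obtain ⟨hflS, hqfS⟩ := quot_map A B₁ S (Ideal.ofList L₁)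
  let L := L₁.map (algebraMap B₁ S)
  have hL : (Ideal.ofList L₁).map (algebraMap B₁ S) = Ideal.ofList L := Ideal.map_ofList _ _
  rw [hL] at hflS hqfS
  have hdisjS : Disjoint ((Submonoid.powers h) : Set B) (q : Set B) :=
    (Ideal.disjoint_powers_iff_notMem h (Ideal.IsPrime.isRadical inferInstance)).mpr hhq
  let qS := q.map (algebraMap B S)
  haveI : qS.IsPrime := IsLocalization.isPrime_of_isPrime_disjoint (Submonoid.powers h) S q inferInstance hdisjS
  have hqS : qS.under B = q := IsLocalization.comap_map_of_isPrime_disjoint (Submonoid.powers h) S inferInstance hdisjS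
  have hqS₁ : qS.under B₁ = q₁ := by
    rw [← IsLocalization.map_comap (Submonoid.powers (algebraMap A B c)) B₁ (qS.under B₁)]
    show Ideal.map _ ((qS.under B₁).under B) = q₁
    rw [Ideal.under_under, hqS]
  have hLS : Ideal.ofList L ≤ qS := by
    rw [← hL, Ideal.map_le_iff_le_comap]
    exact hLq₁.trans hqS₁.ge
  refine ⟨S, inferInstance, inferInstance, inferInstance, inferInstance, h, inferInstance, L, hhq,
    ⟨(hreg.of_flat (S := B₁)).of_flat (S := S), fun htop => ?_⟩, hflS, hqfS, ⟨qS, inferInstance, hLS, hqS⟩,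
    fun Q hQ hLQ hQA => ?_⟩
  · rw [smul_eq_mul, Ideal.mul_top] at htop
    exact (inferInstance : qS.IsPrime).ne_top (top_le_iff.mp (htop.trans_le hLS))
  · haveI := hQ
    let Q₁ := Q.under B₁
    have hLQ₁ : Ideal.ofList L₁ ≤ Q₁ := Ideal.map_le_iff_le_comap.mp (hL.trans_le hLQ)
    let Q₂ : PrimeSpectrum (B₁ ⧸ Ideal.ofList L₁) := ⟨Q₁.map (Ideal.Quotient.mk _),
      Ideal.map_isPrime_of_surjective Ideal.Quotient.mk_surjective (by rw [Ideal.mk_ker]; exact hLQ₁)⟩
    have hQ₂ : Q₂.asIdeal.comap (Ideal.Quotient.mk _) = Q₁ := by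
      show Ideal.comap _ (Ideal.map _ Q₁) = Q₁
      rw [Ideal.comap_map_of_surjective _ Ideal.Quotient.mk_surjective, ← RingHom.ker_eq_comap_bot, Ideal.mk_ker,
        sup_eq_left.mpr hLQ₁]
    by_cases he : Q₂ = q₂
    · rw [← Ideal.under_under (B := B₁), show Q.under B₁ = q₁ from hQ₂.symm.trans (by rw [he, hq₂]), hq₁]
    · exfalso
      have hQT : Q₂ ∈ hT.toFinset := hT.mem_toFinset.mpr (PrimeSpectrum.ext (by
        show (Q₂.asIdeal.comap (Ideal.Quotient.mk _)).under A = q.under A
        rw [hQ₂, Ideal.under_under, hQA]))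
      have hmemQ : (∏ R : hT.toFinset.erase q₂, z R.1 R.2) ∈ Q₂.asIdeal :=
        (Ideal.IsPrime.prod_mem_iff (p := Q₂.asIdeal) (hp := Q₂.2)).mpr
          ⟨⟨Q₂, Finset.mem_erase.mpr ⟨he, hQT⟩⟩, Finset.mem_univ _, hzQ Q₂ (Finset.mem_erase.mpr ⟨he, hQT⟩)⟩
      rw [← hh₁, ← Ideal.mem_comap, hQ₂] at hmemQ
      have hu' : algebraMap B S h ∈ Q := by
        show algebraMap B S (h₀ * algebraMap A B c) ∈ Q
        rw [map_mul]
        refine Ideal.mul_mem_right _ _ ?_
        rw [IsScalarTower.algebraMap_apply B B₁ S]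
        show algebraMap B B₁ h₀ ∈ Q₁
        rw [← hh₀]
        exact Ideal.mul_mem_right _ _ hmemQ
      exact hQ.ne_top (Ideal.eq_top_of_isUnit_mem _ hu' (IsLocalization.Away.algebraMap_isUnit h))

end Groth.Agent.CMFlat.Slice
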