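import Mathlib
import Groth.Prelude.Def_Mor2
import Groth.Prelude.Def_MoreMor
import Groth.Agent.CMFlat.Slice
import Groth.Agent.CMFlat.Locus

/-! Quasi-finite flat slices through closed Cohen-Macaulay points of fibres. -/

set_option autoImplicit false
set_option backward.isDefEq.respectTransparency false
universe u
open CategoryTheory AlgebraicGeometry TopologicalSpace Limits

namespace Groth.Agent.CMFlat.SliceScheme

/-- A regular sequence cuts out a regular closed immersion. -/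
theorem isRegularClosedImmersion {S : Type u} [CommRing S] (L : List S)
    (hL : RingTheory.Sequence.IsRegular S L) {V : Scheme.{u}} (θ : Spec (CommRingCat.of S) ≅ V) :
    Mor2.IsRegularClosedImmersion
      (Spec.map (CommRingCat.ofHom (Ideal.Quotient.mk (Ideal.ofList L))) ≫ θ.hom) := by
  let π := CommRingCat.ofHom (Ideal.Quotient.mk (Ideal.ofList L))
  haveI hcl : IsClosedImmersion (Spec.map π) := IsClosedImmersion.spec_of_surjective _ Ideal.Quotient.mk_surjective
  haveI : IsClosedImmersion (Spec.map π ≫ θ.hom) := inferInstance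
  haveI : IsAffine V := IsAffine.of_isIso θ.inv
  let ρ : Γ(V, ⊤) ≅ CommRingCat.of S := asIso θ.hom.appTop ≪≫ Scheme.ΓSpecIso (CommRingCat.of S)
  let ρ' := ρ.commRingCatIsoToRingEquiv
  refine ⟨inferInstance, fun z => ⟨⊤, isAffineOpen_top V, trivial, L.map ρ'.symm, ?_, ?_⟩⟩
  · refine (AddEquiv.isRegular_congr (e := ρ'.toAddEquiv) (List.forall₂_map_left_iff.mpr
      (List.forall₂_same.mpr fun r _ x => ?_))).mpr hL
    show ρ' (ρ'.symm r * x) = r * ρ' x
    rw [map_mul, RingEquiv.apply_symm_apply]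
  · rw [Scheme.Hom.ker_apply]
    have hnat : (Spec.map π ≫ θ.hom).appTop ≫ (Scheme.ΓSpecIso _).hom = ρ.hom ≫ π := by
      rw [Scheme.Hom.comp_appTop, Category.assoc, Scheme.ΓSpecIso_naturality]
      simp [ρ]
    ext a
    rw [RingHom.mem_ker, show Ideal.ofList (L.map ρ'.symm) = (Ideal.ofList L).comap ρ'.toRingHom from
      (Ideal.map_ofList ρ'.symm.toRingHom L).symm.trans (Ideal.map_symm ρ'),
      Ideal.mem_comap, ← Ideal.Quotient.eq_zero_iff_mem]
    have h1 : (Scheme.ΓSpecIso (CommRingCat.of (S ⧸ Ideal.ofList L))).hom.hom ((Spec.map π ≫ θ.hom).appTop.hom a) =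
        Ideal.Quotient.mk _ (ρ' a) := congrArg (fun f => f.hom a) hnat
    show (Spec.map π ≫ θ.hom).appTop.hom a = 0 ↔ Ideal.Quotient.mk _ (ρ' a) = 0
    rw [← h1]
    exact (map_eq_zero_iff _ (Scheme.ΓSpecIso _).commRingCatIsoToRingEquiv.injective).symm

set_option maxHeartbeats 2000000 in
theorem main {X Y : Scheme.{u}} (f : X ⟶ Y) [LocallyOfFinitePresentation f] (x : X)
    (hcm : MoreMor.IsCMAt f x) (hcl : IsClosed ({f.asFiber x} : Set ↑(f.fiber (f x)))) :
    ∃ (V : X.Opens) (Z : Scheme.{u}) (i : Z ⟶ (V : Scheme.{u})), Mor2.IsRegularClosedImmersion i ∧ x ∈ Set.range ⇑(i ≫ V.ι) ∧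
      Flat (i ≫ V.ι ≫ f) ∧ LocallyOfFinitePresentation (i ≫ V.ι ≫ f) ∧ LocallyQuasiFinite (i ≫ V.ι ≫ f) ∧
      ∀ z : Z, f (V.ι (i z)) = f x → V.ι (i z) = x := by
  obtain ⟨d, U, g, hxU, hgq, hfl, hqf, -⟩ := Locus.exists_flat_param f x hcm
  haveI := hfl
  haveI := hqf
  obtain ⟨U₀, hU₀, hyU₀, -⟩ := exists_isAffineOpen_mem_and_subset (X := Y) (U := ⊤) (x := f x) trivial
  obtain ⟨V, hV, hxV, hVU⟩ :=
    exists_isAffineOpen_mem_and_subset (X := X) (U := U ⊓ f ⁻¹ᵁ U₀) (x := x) ⟨hxU, hyU₀⟩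
  have hVU₀ : V ≤ f ⁻¹ᵁ U₀ := hVU.trans inf_le_right
  let A := Γ(Y, U₀)
  let B := Γ(X, V)
  let φ := f.appLE U₀ V hVU₀
  letI : Algebra A B := φ.hom.toAlgebra
  have hφ : Spec.map φ ≫ hU₀.fromSpec = hV.fromSpec ≫ f := IsAffineOpen.SpecMap_appLE_fromSpec f hU₀ hV hVU₀
  haveI : Algebra.FinitePresentation A B := f.finitePresentation_appLE hU₀ hV hVU₀
  -- the parameters on the chart
  let R := MvPolynomial (Fin d) A
  let σ : ULift.{u} (Fin d) → Fin d := ULift.down
  let i₀ : Spec (CommRingCat.of R) ⟶ 𝔸(ULift.{u} (Fin d); Y) :=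
    Spec.map (CommRingCat.ofHom (MvPolynomial.rename σ : MvPolynomial (ULift.{u} (Fin d)) A →ₐ[A] R).toRingHom) ≫
      (AffineSpace.SpecIso (ULift.{u} (Fin d)) A).inv ≫ AffineSpace.map _ hU₀.fromSpec
  haveI : IsIso (Spec.map (CommRingCat.ofHom (MvPolynomial.rename σ : MvPolynomial (ULift.{u} (Fin d)) A →ₐ[A] R).toRingHom)) := by
    haveI : IsIso (CommRingCat.ofHom (MvPolynomial.rename σ : MvPolynomial (ULift.{u} (Fin d)) A →ₐ[A] R).toRingHom) :=
      (ConcreteCategory.isIso_iff_bijective _).mpr (MvPolynomial.renameEquiv A Equiv.ulift).bijective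
    infer_instance
  haveI : IsOpenImmersion (AffineSpace.map (ULift.{u} (Fin d)) hU₀.fromSpec) :=
    MorphismProperty.of_isPullback (AffineSpace.isPullback_map hU₀.fromSpec).flip inferInstance
  have hi₀ : i₀ ≫ (𝔸(ULift.{u} (Fin d); Y) ↘ Y) = Spec.map (CommRingCat.ofHom (algebraMap A R)) ≫ hU₀.fromSpec := by
    simp only [i₀, Category.assoc, AffineSpace.map_over, AffineSpace.SpecIso_inv_over_assoc]
    rw [← Category.assoc, ← Spec.map_comp, ← CommRingCat.ofHom_comp]
    congr 3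
    exact RingHom.ext fun a => MvPolynomial.rename_C σ a
  let jV : Spec B ⟶ (U : Scheme.{u}) := IsOpenImmersion.lift U.ι hV.fromSpec (by
    rw [hV.range_fromSpec, Scheme.Opens.range_ι]; exact hVU.trans inf_le_left)
  have hjV : jV ≫ U.ι = hV.fromSpec := IsOpenImmersion.lift_fac _ _ _
  haveI : IsOpenImmersion (jV ≫ U.ι) := by rw [hjV]; infer_instance
  haveI : IsOpenImmersion jV := IsOpenImmersion.of_comp jV U.ι
  have hrange : Set.range (jV ≫ g) ⊆ Set.range i₀ := by
    rintro _ ⟨c, rfl⟩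
    have h1 : (𝔸(ULift.{u} (Fin d); Y) ↘ Y) ((jV ≫ g) c) ∈ Set.range hU₀.fromSpec := by
      show (jV ≫ g ≫ _) c ∈ _
      rw [hgq, reassoc_of% hjV, ← hφ]
      exact ⟨_, rfl⟩
    obtain ⟨w, hw⟩ : (jV ≫ g) c ∈ Set.range (AffineSpace.map (ULift.{u} (Fin d)) hU₀.fromSpec) := by
      let h := AffineSpace.isPullback_map (n := ULift.{u} (Fin d)) hU₀.fromSpec
      obtain ⟨p, hp⟩ : (jV ≫ g) c ∈ Set.range (pullback.fst (𝔸(ULift.{u} (Fin d); Y) ↘ Y) hU₀.fromSpec) := by
        rw [Scheme.Pullback.range_fst]; exact h1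
      refine ⟨h.isoPullback.inv p, ?_⟩
      rw [← hp, ← h.isoPullback_inv_fst]
      rfl
    rw [← hw]
    refine ⟨(inv (Spec.map (CommRingCat.ofHom (MvPolynomial.rename σ : MvPolynomial (ULift.{u} (Fin d)) A →ₐ[A] R).toRingHom)))
      ((AffineSpace.SpecIso (ULift.{u} (Fin d)) A).hom w), ?_⟩
    show (((AffineSpace.SpecIso (ULift.{u} (Fin d)) A).hom ≫
      inv (Spec.map (CommRingCat.ofHom (MvPolynomial.rename σ : MvPolynomial (ULift.{u} (Fin d)) A →ₐ[A] R).toRingHom))) ≫ i₀) w = _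
    simp only [i₀, Category.assoc, IsIso.inv_hom_id_assoc, Iso.hom_inv_id_assoc]
    rfl
  let ψ := Spec.preimage (IsOpenImmersion.lift i₀ (jV ≫ g) hrange)
  have hψ : Spec.map ψ ≫ i₀ = jV ≫ g := by rw [Spec.map_preimage]; exact IsOpenImmersion.lift_fac _ _ _
  letI : Algebra R B := ψ.hom.toAlgebra
  haveI : IsScalarTower A R B := IsScalarTower.of_algebraMap_eq' (by
    have h1 : CommRingCat.ofHom (algebraMap A R) ≫ ψ = φ := by
      apply Spec.map_injective
      rw [← cancel_mono hU₀.fromSpec, Spec.map_comp, Category.assoc, ← hi₀, reassoc_of% hψ, hgq, reassoc_of% hjV, hφ]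
    exact (congrArg CommRingCat.Hom.hom h1).symm)
  haveI : LocallyQuasiFinite (Spec.map ψ ≫ i₀) := by rw [hψ]; infer_instance
  haveI : LocallyQuasiFinite (Spec.map ψ) := LocallyQuasiFinite.of_comp (Spec.map ψ) i₀
  haveI : Algebra.QuasiFinite R B := (HasRingHomProperty.Spec_iff (P := @LocallyQuasiFinite) (φ := ψ)).mp inferInstance
  haveI : AlgebraicGeometry.Flat (Spec.map ψ ≫ i₀) := by rw [hψ]; infer_instance
  haveI : AlgebraicGeometry.Flat (Spec.map ψ) := MorphismProperty.of_isPullback (P := @AlgebraicGeometry.Flat) (IsPullback.of_horiz_isIso_mono (fst := 𝟙 _) (snd := Spec.map ψ) (f := Spec.map ψ ≫ i₀) (g := i₀) ⟨by simp⟩) inferInstance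
  haveI : Module.Flat R B := (HasRingHomProperty.Spec_iff (P := @AlgebraicGeometry.Flat) (φ := ψ)).mp inferInstance
  -- the point
  let q : PrimeSpectrum B := hV.primeIdealOf ⟨x, hxV⟩
  haveI := q.2
  have hq : hV.fromSpec q = x := hV.fromSpec_primeIdealOf _
  have hcomap : ∀ Q : PrimeSpectrum B, f (hV.fromSpec Q) = hU₀.fromSpec (PrimeSpectrum.comap φ.hom Q) := fun Q => by
    show (hV.fromSpec ≫ f) Q = _
    rw [← hφ]; rfl
  obtain ⟨S, _, _, _, _, h, _, L, hhq, hreg, hflat, hqfin, ⟨Q₀, hQ₀, hLQ₀, hQ₀q⟩, huniq⟩ :=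
    Slice.main (A := A) (n := d) q.asIdeal fun Q hQ hle hu => by
      let Q' : PrimeSpectrum B := ⟨Q, hQ⟩
      have hfQ : f (hV.fromSpec Q') = f x := by
        rw [hcomap, ← hq, hcomap]
        exact congrArg hU₀.fromSpec (PrimeSpectrum.ext hu)
      obtain ⟨w, hw⟩ : hV.fromSpec Q' ∈ Set.range (f.fiberι (f x)) := by rw [f.range_fiberι]; exact hfQ
      have hsp : f.asFiber x ⤳ w := (f.fiberι (f x)).isEmbedding.isInducing.specializes_iff.mp (by
        rw [Scheme.Hom.fiberι_asFiber, hw, ← hq]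
        exact ((PrimeSpectrum.le_iff_specializes q Q').mp hle).map hV.fromSpec.continuous)
      have hwx : w = f.asFiber x := hsp.mem_closed hcl rfl
      exact congrArg PrimeSpectrum.asIdeal
        (hV.fromSpec.isOpenEmbedding.injective (by rw [← hw, hwx, Scheme.Hom.fiberι_asFiber, hq]) : Q' = q)
  haveI : IsOpenImmersion (Spec.map (CommRingCat.ofHom (algebraMap B S))) := IsOpenImmersion.of_isLocalization h
  let j : Spec (CommRingCat.of S) ⟶ X := Spec.map (CommRingCat.ofHom (algebraMap B S)) ≫ hV.fromSpec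
  let π : S →+* S ⧸ Ideal.ofList L := Ideal.Quotient.mk _
  let i : Spec (CommRingCat.of (S ⧸ Ideal.ofList L)) ⟶ (j.opensRange : Scheme.{u}) :=
    Spec.map (CommRingCat.ofHom π) ≫ j.isoOpensRange.hom
  have hij : i ≫ j.opensRange.ι = Spec.map (CommRingCat.ofHom π) ≫ j := by
    rw [Category.assoc, Scheme.Hom.isoOpensRange_hom_ι]
  have hif : i ≫ j.opensRange.ι ≫ f =
      Spec.map (CommRingCat.ofHom (algebraMap A (S ⧸ Ideal.ofList L))) ≫ hU₀.fromSpec := by
    rw [reassoc_of% hij]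
    simp only [j, Category.assoc]
    rw [← hφ, ← Spec.map_comp_assoc, ← Spec.map_comp_assoc]
    congr 2
    ext a
    show π (algebraMap B S (algebraMap A B a)) = _
    rw [← IsScalarTower.algebraMap_apply A B S]
    rfl
  refine ⟨j.opensRange, Spec (CommRingCat.of (S ⧸ Ideal.ofList L)), i, isRegularClosedImmersion L hreg j.isoOpensRange, ?_, ?_, ?_, ?_, fun z hz => ?_⟩
  · refine ⟨(⟨Q₀.map π, Ideal.map_isPrime_of_surjective Ideal.Quotient.mk_surjective (by rw [Ideal.mk_ker]; exact hLQ₀)⟩ :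
      PrimeSpectrum (S ⧸ Ideal.ofList L)), ?_⟩
    rw [hij]
    show hV.fromSpec _ = x
    rw [← hq]
    refine congrArg hV.fromSpec (PrimeSpectrum.ext ?_)
    show ((Q₀.map π).comap π).comap (algebraMap B S) = q.asIdeal
    rw [Ideal.comap_map_of_surjective _ Ideal.Quotient.mk_surjective, ← RingHom.ker_eq_comap_bot, Ideal.mk_ker,
      sup_eq_left.mpr hLQ₀]
    exact hQ₀q
  · rw [hif]
    haveI : AlgebraicGeometry.Flat (Spec.map (CommRingCat.ofHom (algebraMap A (S ⧸ Ideal.ofList L)))) :=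
      (HasRingHomProperty.Spec_iff (P := @AlgebraicGeometry.Flat)).mpr (RingHom.flat_algebraMap_iff.mpr hflat)
    infer_instance
  · rw [hif]
    haveI : LocallyOfFinitePresentation (Spec.map (CommRingCat.ofHom (algebraMap A (S ⧸ Ideal.ofList L)))) := by
      refine (HasRingHomProperty.Spec_iff (P := @LocallyOfFinitePresentation)).mpr
        (RingHom.finitePresentation_algebraMap.mpr ?_)
      haveI : Algebra.FinitePresentation B S := IsLocalization.Away.finitePresentation h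
      haveI : Algebra.FinitePresentation A S := Algebra.FinitePresentation.trans A B S
      exact Algebra.FinitePresentation.quotient (Submodule.fg_def.mpr ⟨_, List.finite_toSet L, rfl⟩)
    infer_instance
  · rw [hif]
    haveI : LocallyQuasiFinite (Spec.map (CommRingCat.ofHom (algebraMap A (S ⧸ Ideal.ofList L)))) :=
      (HasRingHomProperty.Spec_iff (P := @LocallyQuasiFinite)).mpr (RingHom.quasiFinite_algebraMap.mpr hqfin)
    infer_instance
  · let Q : PrimeSpectrum S := PrimeSpectrum.comap π z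
    have hz' : j.opensRange.ι (i z) = hV.fromSpec (PrimeSpectrum.comap (algebraMap B S) Q) := by
      show (i ≫ j.opensRange.ι) z = _
      rw [hij]; rfl
    rw [hz', hcomap, ← hq, hcomap] at hz
    rw [hz', ← hq]
    refine congrArg hV.fromSpec (PrimeSpectrum.ext (huniq Q.asIdeal Q.2 ?_ ?_))
    · intro a ha
      show π a ∈ (z : PrimeSpectrum (S ⧸ Ideal.ofList L)).asIdeal
      rw [show π a = 0 from Ideal.Quotient.eq_zero_iff_mem.mpr ha]
      exact Ideal.zero_mem _
    · have := congrArg PrimeSpectrum.asIdeal (hU₀.fromSpec.isOpenEmbedding.injective hz)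
      rw [← Ideal.under_under (B := B)]
      exact this

end Groth.Agent.CMFlat.SliceScheme
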